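import Mathlib

/-!
# Transitivity of the special linear group on pairs of independent vectors
-/

set_option autoImplicit false

namespace CfsgLib.Linear.PairTransitive

open Matrix

variable {F : Type*} [Field F] {n : ℕ}

theorem exists_matrix (hn : 3 ≤ n) (i₀ i₁ : Fin n) (h01 : i₀ ≠ i₁) (v w : Fin n → F)
    (hli : LinearIndependent F ![v, w]) :
    ∃ M : Matrix (Fin n) (Fin n) F, M.det ≠ 0 ∧ M.mulVec (Pi.single i₀ 1) = v ∧ M.mulVec (Pi.single i₁ 1) = w := by
  classical
  set S := Submodule.span F (Set.range ![v, w]) with hS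
  obtain ⟨W, hW⟩ := Submodule.exists_isCompl S
  let bS : Module.Basis (Fin 2) F S := Module.Basis.span hli
  let bW := Module.finBasis F W
  let b₀ : Module.Basis (Fin 2 ⊕ Fin (Module.finrank F W)) F (Fin n → F) :=
    (bS.prod bW).map (Submodule.prodEquivOfIsCompl S W hW)
  have hcard : Fintype.card (Fin 2 ⊕ Fin (Module.finrank F W)) = Fintype.card (Fin n) := by
    rw [← Module.finrank_eq_card_basis b₀, ← Module.finrank_eq_card_basis (Pi.basisFun F (Fin n))]
  let e₀ := Fintype.equivOfCardEq hcard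
  -- send the first two indices to the prescribed ones
  let σ : Equiv.Perm (Fin n) :=
    (Equiv.swap (e₀ (Sum.inl 0)) i₀).trans (Equiv.swap ((Equiv.swap (e₀ (Sum.inl 0)) i₀) (e₀ (Sum.inl 1))) i₁)
  let e := e₀.trans σ
  have h1 : e (Sum.inl 1) = i₁ := by simp [e, σ]
  have h0 : e (Sum.inl 0) = i₀ := by
    simp only [e, σ, Equiv.trans_apply, Equiv.swap_apply_left]
    refine Equiv.swap_apply_of_ne_of_ne ?_ h01
    intro h
    have h' := (Equiv.swap (e₀ (Sum.inl 0)) i₀).injective (a₁ := e₀ (Sum.inl 0)) (a₂ := e₀ (Sum.inl 1))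
      (by rw [Equiv.swap_apply_left]; exact h)
    simpa using e₀.injective h'
  let b := b₀.reindex e
  let M : Matrix (Fin n) (Fin n) F := (Pi.basisFun F (Fin n)).toMatrix b
  have hcol : ∀ j, M.mulVec (Pi.single j 1) = b j := fun j => by
    rw [Matrix.mulVec_single_one]
    funext i
    simp [M, Module.Basis.toMatrix_apply]
  have hval : ∀ k : Fin 2, b (e (Sum.inl k)) = ![v, w] k := fun k => by
    simp [b, b₀, bS, Module.Basis.coe_span_apply hli k]
  refine ⟨M, ?_, ?_, ?_⟩
  · haveI := (Pi.basisFun F (Fin n)).invertibleToMatrix b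
    exact (Matrix.isUnit_det_of_invertible M).ne_zero
  · rw [hcol, ← h0, hval]; rfl
  · rw [hcol, ← h1, hval]; rfl

/-- Any independent pair of vectors is carried to any other by the special linear group. -/
theorem exists_mulVec_pair (hn : 3 ≤ n) (v w v' w' : Fin n → F) (h : LinearIndependent F ![v, w])
    (h' : LinearIndependent F ![v', w']) :
    ∃ g : Matrix.SpecialLinearGroup (Fin n) F, (g : Matrix (Fin n) (Fin n) F).mulVec v = v' ∧
      (g : Matrix (Fin n) (Fin n) F).mulVec w = w' := by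
  classical
  let i₀ : Fin n := ⟨0, by omega⟩
  let i₁ : Fin n := ⟨1, by omega⟩
  let i₂ : Fin n := ⟨2, by omega⟩
  have h01 : i₀ ≠ i₁ := by simp [i₀, i₁]
  obtain ⟨M, hM, hM0, hM1⟩ := exists_matrix hn i₀ i₁ h01 v w h
  obtain ⟨M', hM', hM0', hM1'⟩ := exists_matrix hn i₀ i₁ h01 v' w' h'
  let d : Fin n → F := fun i => if i = i₂ then M.det / M'.det else 1
  let P := M' * Matrix.diagonal d * M⁻¹
  have hdet : P.det = 1 := by
    rw [Matrix.det_mul, Matrix.det_mul, Matrix.det_diagonal, Matrix.det_nonsing_inv, Ring.inverse_eq_inv']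
    simp only [d, Finset.prod_ite_eq', Finset.mem_univ, if_true]
    field_simp
  have hinv : ∀ x y, M.mulVec x = y → (M⁻¹).mulVec y = x := fun x y hxy => by
    rw [← hxy, Matrix.mulVec_mulVec, Matrix.nonsing_inv_mul M (isUnit_iff_ne_zero.2 hM), Matrix.one_mulVec]
  have hd : ∀ i, i ≠ i₂ → (Matrix.diagonal d).mulVec (Pi.single i 1) = Pi.single i 1 := fun i hi => by
    rw [Matrix.diagonal_mulVec_single, mul_one]
    simp [d, hi]
  refine ⟨⟨P, hdet⟩, ?_, ?_⟩
  · show P.mulVec v = v'
    rw [← Matrix.mulVec_mulVec, hinv _ _ hM0, ← Matrix.mulVec_mulVec, hd i₀ (by simp [i₀, i₂]), hM0']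
  · show P.mulVec w = w'
    rw [← Matrix.mulVec_mulVec, hinv _ _ hM1, ← Matrix.mulVec_mulVec, hd i₁ (by simp [i₁, i₂]), hM1']

theorem indep_of_ne (v w : Fin n → F) (hv : v ≠ 0) (hw : ∀ c : F, w ≠ c • v) : LinearIndependent F ![v, w] := by
  rw [LinearIndependent.pair_iff' hv]
  exact fun c h => hw c h.symm

end CfsgLib.Linear.PairTransitive
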